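import Groth.Agent.Lib.Helper23.DimOne.Alg
import Groth.Agent.Lib.Helper2.RpushQC4

/-!
# Quasi-compact opens of schemes with Noetherian local rings of dimension ≤ 1 are affine over the scheme
(helper23)
-/

set_option autoImplicit false
universe u
open CategoryTheory CategoryTheory.Limits AlgebraicGeometry Opposite TopologicalSpace

namespace Groth.Agent.Lib.Helper23.DimOne

variable {X : Scheme.{u}}

theorem mem_basicOpen_iff {W : X.Opens} (hW : IsAffineOpen W) (z : W) (f : Γ(X, W)) :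
    (z : X) ∈ X.basicOpen f ↔ f ∉ (hW.primeIdealOf z).asIdeal := by
  have h1 : hW.fromSpec (hW.primeIdealOf z) = z.1 := hW.fromSpec_primeIdealOf z
  have h2 : hW.fromSpec ⁻¹ᵁ X.basicOpen f = PrimeSpectrum.basicOpen f :=
    hW.fromSpec_preimage_basicOpen f
  have h3 : (z : X) ∈ X.basicOpen f ↔ hW.primeIdealOf z ∈ hW.fromSpec ⁻¹ᵁ X.basicOpen f := by
    rw [← h1]
    rfl
  rw [h3, h2]
  rfl

/-- the inverse image under `U.ι` of an open `V` is affine if `U ⊓ V` is -/
theorem isAffineOpen_ι_preimage (U V : X.Opens) (h : IsAffineOpen (U ⊓ V)) :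
    IsAffineOpen (U.ι ⁻¹ᵁ V) := by
  rw [← Scheme.Hom.isAffineOpen_iff_of_isOpenImmersion U.ι]
  have : U.ι ''ᵁ (U.ι ⁻¹ᵁ V) = U ⊓ V := by
    rw [Scheme.Hom.image_preimage_eq_opensRange_inf, Scheme.Opens.opensRange_ι]
  rw [this]
  exact h

theorem isAffineHom_ι_of_dim_le_one
    (hX : ∀ x : X, IsNoetherianRing (X.presheaf.stalk x) ∧ ringKrullDim (X.presheaf.stalk x) ≤ 1)
    (U : X.Opens) [QuasiCompact U.ι] : IsAffineHom U.ι := by
  classical
  apply isAffineHom_of_forall_exists_isAffineOpen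
  intro x
  by_cases hxU : x ∈ U
  · obtain ⟨V, hV, hxV, hVU⟩ := exists_isAffineOpen_mem_and_subset hxU
    refine ⟨V, hxV, hV, isAffineOpen_ι_preimage U V ?_⟩
    have : U ⊓ V = V := inf_eq_right.2 hVU
    rw [this]
    exact hV
  · obtain ⟨W, hW, hxW, -⟩ := exists_isAffineOpen_mem_and_subset (show x ∈ (⊤ : X.Opens) from trivial)
    -- `U ⊓ W` is compact
    have hcpt : IsCompact ((U ⊓ W : X.Opens) : Set X) := by
      have h1 : IsCompact ((U.ι ⁻¹ᵁ W : (↑U : Scheme.{u}).Opens) : Set (↑U : Scheme.{u})) :=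
        QuasiCompact.isCompact_preimage (f := U.ι) _ W.isOpen hW.isCompact
      have h2 := h1.image U.ι.continuous
      have h3 : (U.ι ''ᵁ (U.ι ⁻¹ᵁ W) : X.Opens) = U ⊓ W := by
        rw [Scheme.Hom.image_preimage_eq_opensRange_inf, Scheme.Opens.opensRange_ι]
      rw [← h3]
      exact h2
    -- cover by basic opens
    have hloc : ∀ y : (U ⊓ W : X.Opens), ∃ f : Γ(X, W), X.basicOpen f ≤ U ⊓ W ∧ (y : X) ∈ X.basicOpen f :=
      fun y => hW.exists_basicOpen_le y y.2.2
    choose f hfle hyf using hloc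
    obtain ⟨t, ht⟩ := hcpt.elim_finite_subcover (fun y : (U ⊓ W : X.Opens) => (X.basicOpen (f y) : Set X))
      (fun y => (X.basicOpen (f y)).isOpen) (fun z hz => Set.mem_iUnion.2 ⟨⟨z, hz⟩, hyf ⟨z, hz⟩⟩)
    let s : Finset Γ(X, W) := t.image f
    have hcover : ∀ z : X, z ∈ U → z ∈ W → ∃ a ∈ s, z ∈ X.basicOpen a := by
      intro z hzU hzW
      have := ht (show z ∈ ((U ⊓ W : X.Opens) : Set X) from ⟨hzU, hzW⟩)
      obtain ⟨y, hy, hzy⟩ := Set.mem_iUnion₂.1 this
      exact ⟨f y, Finset.mem_image_of_mem f hy, hzy⟩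
    have hsle : ∀ a ∈ s, X.basicOpen a ≤ U ⊓ W := by
      intro a ha
      obtain ⟨y, -, rfl⟩ := Finset.mem_image.1 ha
      exact hfle y
    -- the local ring at `x`
    let p := (hW.primeIdealOf ⟨x, hxW⟩).asIdeal
    letI : Algebra Γ(X, W) (X.presheaf.stalk x) :=
      TopCat.Presheaf.algebra_section_stalk X.presheaf ⟨x, hxW⟩
    haveI : IsLocalization.AtPrime (X.presheaf.stalk x) p := hW.isLocalization_stalk ⟨x, hxW⟩
    haveI : IsNoetherianRing (X.presheaf.stalk x) := (hX x).1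
    haveI : Ring.KrullDimLE 1 (X.presheaf.stalk x) := Ring.krullDimLE_iff.2 (hX x).2
    have hsp : ∀ a ∈ s, a ∈ p := by
      intro a ha
      by_contra hap
      have h1 : x ∈ X.basicOpen a := (mem_basicOpen_iff hW ⟨x, hxW⟩ a).2 hap
      exact hxU (hsle a ha h1).1
    obtain ⟨f', hf', g, hgp, N, hN⟩ := exists_principal p (X.presheaf.stalk x) s hsp
    refine ⟨X.basicOpen g, (mem_basicOpen_iff hW ⟨x, hxW⟩ g).2 hgp, hW.basicOpen g,
      isAffineOpen_ι_preimage U _ ?_⟩
    have hgW : X.basicOpen g ≤ W := X.basicOpen_le g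
    have key : U ⊓ X.basicOpen g = X.basicOpen (g * f') := by
      apply le_antisymm
      · rintro z ⟨hzU, hzg⟩
        have hzW : z ∈ W := hgW hzg
        obtain ⟨a, ha, hza⟩ := hcover z hzU hzW
        replace hzg := (mem_basicOpen_iff hW ⟨z, hzW⟩ g).1 hzg
        replace hza := (mem_basicOpen_iff hW ⟨z, hzW⟩ a).1 hza
        refine (mem_basicOpen_iff hW ⟨z, hzW⟩ (g * f')).2 ?_
        intro hmem
        haveI := (hW.primeIdealOf ⟨z, hzW⟩).isPrime
        rcases Ideal.IsPrime.mem_or_mem inferInstance hmem with h1 | h1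
        · exact hzg h1
        · have h2 : g * a ^ N ∈ (hW.primeIdealOf ⟨z, hzW⟩).asIdeal := by
            have := hN a ha
            rw [Ideal.mem_span_singleton] at this
            obtain ⟨c, hc⟩ := this
            rw [hc]
            exact Ideal.mul_mem_right _ _ h1
          rcases Ideal.IsPrime.mem_or_mem inferInstance h2 with h3 | h3
          · exact hzg h3
          · exact hza (Ideal.IsPrime.mem_of_pow_mem inferInstance N h3)
      · intro z hz
        have hzW : z ∈ W := (X.basicOpen_le _) hz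
        replace hz := (mem_basicOpen_iff hW ⟨z, hzW⟩ (g * f')).1 hz
        haveI := (hW.primeIdealOf ⟨z, hzW⟩).isPrime
        have hzg : g ∉ (hW.primeIdealOf ⟨z, hzW⟩).asIdeal := fun h => hz (Ideal.mul_mem_right _ _ h)
        have hzf' : f' ∉ (hW.primeIdealOf ⟨z, hzW⟩).asIdeal := fun h => hz (Ideal.mul_mem_left _ _ h)
        refine ⟨?_, (mem_basicOpen_iff hW ⟨z, hzW⟩ g).2 hzg⟩
        by_contra hzU
        apply hzf'
        have hle : Ideal.span (s : Set Γ(X, W)) ≤ (hW.primeIdealOf ⟨z, hzW⟩).asIdeal := by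
          rw [Ideal.span_le]
          intro a ha
          by_contra hap
          have h1 : z ∈ X.basicOpen a := (mem_basicOpen_iff hW ⟨z, hzW⟩ a).2 hap
          exact hzU (hsle a ha h1).1
        exact hle hf'
    rw [key]
    exact hW.basicOpen (g * f')

end Groth.Agent.Lib.Helper23.DimOne
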