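import Mathlib

/-!
# Locally principal complements over rings whose local rings are Noetherian of dimension ≤ 1 (helper23)

Let `p` be a prime of `A` such that `A_p` is Noetherian of Krull dimension `≤ 1`, and `f_1, …, f_n ∈ p`.
Then there are `f' ∈ (f_1, …, f_n)`, `g ∉ p` and `N` with `g f_i^N ∈ (f')` for all `i`: on `D(g)` the open
`⋃ D(f_i)` is the principal open `D(f')`.
-/

set_option autoImplicit false

namespace Groth.Agent.Lib.Helper23.DimOne

open IsLocalRing

theorem exists_principal {A : Type*} [CommRing A] (p : Ideal A) [p.IsPrime]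
    (R : Type*) [CommRing R] [Algebra A R] [IsLocalization.AtPrime R p]
    [IsNoetherianRing R] [Ring.KrullDimLE 1 R] (s : Finset A) (hs : ∀ f ∈ s, f ∈ p) :
    ∃ f' ∈ Ideal.span (s : Set A), ∃ g : A, g ∉ p ∧ ∃ N : ℕ, ∀ f ∈ s, g * f ^ N ∈ Ideal.span {f'} := by
  classical
  haveI : IsLocalRing R := IsLocalization.AtPrime.isLocalRing R p
  let J : Ideal R := Ideal.map (algebraMap A R) (Ideal.span (s : Set A))
  have hJmax : J ≤ maximalIdeal R := by
    rw [Ideal.map_le_iff_le_comap, Ideal.span_le]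
    intro f hf
    exact (IsLocalization.AtPrime.to_map_mem_maximal_iff R p f).2 (hs f hf)
  -- the minimal primes not containing `J`
  have hfin : (minimalPrimes R).Finite := minimalPrimes.finite_of_isNoetherianRing R
  let S : Finset (Ideal R) := hfin.toFinset.filter (fun q => ¬ J ≤ q)
  have hSprime : ∀ q ∈ S, q.IsPrime := by
    intro q hq
    have : q ∈ minimalPrimes R := hfin.mem_toFinset.1 (Finset.mem_filter.1 hq).1
    exact this.1.1
  -- prime avoidance
  have havoid : ∃ h ∈ J, ∀ q ∈ S, h ∉ q := by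
    by_contra hcon
    push_neg at hcon
    have hsub : (J : Set R) ⊆ ⋃ q ∈ (↑S : Set (Ideal R)), (q : Set R) := by
      intro h hh
      obtain ⟨q, hq, hhq⟩ := hcon h hh
      exact Set.mem_biUnion hq hhq
    by_cases hSe : S.Nonempty
    · obtain ⟨q₀, hq₀⟩ := hSe
      obtain ⟨q, hq, hJq⟩ := (Ideal.subset_union_prime (f := fun q : Ideal R => q) q₀ q₀
        (fun i hi _ _ => hSprime i hi)).1 hsub
      exact (Finset.mem_filter.1 hq).2 hJq
    · rw [Finset.not_nonempty_iff_eq_empty] at hSe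
      obtain ⟨q, hq, -⟩ := hcon 0 J.zero_mem
      rw [hSe] at hq
      exact absurd hq (Finset.notMem_empty q)
  obtain ⟨h, hhJ, hhS⟩ := havoid
  -- `J ≤ radical (h)`
  have hrad : J ≤ (Ideal.span {h}).radical := by
    rw [Ideal.radical_eq_sInf]
    refine le_sInf ?_
    rintro P ⟨hP, hPprime⟩
    have hhP : h ∈ P := hP (Ideal.mem_span_singleton_self h)
    rcases (Ring.krullDimLE_one_iff.1 inferInstance) P hPprime with hmin | hmax
    · by_contra hJP
      have : P ∈ S := Finset.mem_filter.2 ⟨hfin.mem_toFinset.2 hmin, hJP⟩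
      exact hhS P this hhP
    · rw [IsLocalRing.eq_maximalIdeal hmax]
      exact hJmax
  -- `h` comes from `f' ∈ span s` up to a unit
  obtain ⟨⟨⟨f', hf'⟩, ⟨t, ht⟩⟩, hft⟩ := (IsLocalization.mem_map_algebraMap_iff p.primeCompl R).1 hhJ
  dsimp only at hft
  have htunit : IsUnit (algebraMap A R t) := IsLocalization.map_units R ⟨t, ht⟩
  have hspan : Ideal.span {h} = Ideal.span {algebraMap A R f'} := by
    rw [← hft]
    exact (Ideal.span_singleton_mul_right_unit htunit h).symm
  -- powers
  have hpow : ∀ f ∈ s, ∃ n : ℕ, algebraMap A R f ^ n ∈ Ideal.span {algebraMap A R f'} := by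
    intro f hf
    have h1 : algebraMap A R f ∈ (Ideal.span {h}).radical :=
      hrad (Ideal.mem_map_of_mem _ (Ideal.subset_span hf))
    rw [hspan] at h1
    exact h1
  choose! n hn using hpow
  let N := s.sup n
  have hpowN : ∀ f ∈ s, algebraMap A R (f ^ N) ∈ Ideal.map (algebraMap A R) (Ideal.span {f'}) := by
    intro f hf
    rw [Ideal.map_span, Set.image_singleton, map_pow]
    have hle : n f ≤ N := Finset.le_sup hf
    rw [← Nat.sub_add_cancel hle, pow_add]
    exact Ideal.mul_mem_left _ _ (hn f hf)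
  have hg : ∀ f ∈ s, ∃ g : A, g ∉ p ∧ g * f ^ N ∈ Ideal.span {f'} := by
    intro f hf
    obtain ⟨⟨⟨y, hy⟩, ⟨u, hu⟩⟩, hyu⟩ :=
      (IsLocalization.mem_map_algebraMap_iff p.primeCompl R).1 (hpowN f hf)
    dsimp only at hyu
    rw [← map_mul] at hyu
    obtain ⟨⟨v, hv⟩, hvv⟩ := (IsLocalization.eq_iff_exists p.primeCompl R).1 hyu
    dsimp only at hvv
    refine ⟨v * u, fun hmem => ?_, ?_⟩
    · rcases (Ideal.IsPrime.mem_or_mem inferInstance hmem) with h1 | h1
      · exact hv h1
      · exact hu h1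
    · have : v * u * f ^ N = v * y := by rw [← hvv]; ring
      rw [this]
      exact Ideal.mul_mem_left _ _ hy
  choose! g hgp hgmem using hg
  refine ⟨f', hf', ∏ f ∈ s, g f, ?_, N, ?_⟩
  · intro hmem
    obtain ⟨f, hf, hfg⟩ := (Ideal.IsPrime.prod_mem_iff (hp := inferInstance)).1 hmem
    exact hgp f hf hfg
  · intro f hf
    rw [← Finset.mul_prod_erase s g hf, mul_assoc, mul_comm (∏ x ∈ s.erase f, g x), ← mul_assoc]
    exact Ideal.mul_mem_right _ _ (hgmem f hf)

end Groth.Agent.Lib.Helper23.DimOne
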